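import Cfsg.Agent.FGS4.SuzOut.Main

/-!
# Two small centralisers
-/

set_option autoImplicit false
set_option maxRecDepth 20000

namespace Cfsg.Agent.FGS4.SuzOut

open Cfsg.Agent.Screen.CosetEnum

theorem P_el {j : ℕ} (hj : j ≠ 11) : P j = fHom (el j) := if_neg hj

theorem pres_word (w : List ℕ) : Pres (evalW P w) := by
  induction w with
  | nil => exact fun u v => rfl
  | cons a w ih =>
    refine Pres.mul ih ?_
    unfold P
    split_ifs
    · exact pres_tau
    · exact pres_f _

theorem ap_pow (j k : ℕ) (hj : j < 12) (c : Pt) : ((P j ^ k : Equiv.Perm Pt) c : ℕ) = ap (rep k j) c := by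
  rw [← rep_eval P k j, ap_eq _ (rep_lt hj)]

theorem centralizer_x {g : SG} (hg : Commute g (el 7)) : ∃ k : ℕ, g = el 7 ^ k := by
  have hx0 : x0 < SuzG24.tbl.n := by decide +kernel
  set b : Pt := ⟨x0, hx0⟩
  have hc : Commute (fHom g) (P 7) := by rw [P_el (by norm_num)]; exact hg.map fHom
  set q := fHom g b
  have hpat : ∀ i, rel q (ap (rep i 7) q) = rel x0 (ap (rep i 7) x0) := by
    intro i
    have e : (P 7 ^ i : Equiv.Perm Pt) q = fHom g ((P 7 ^ i : Equiv.Perm Pt) b) :=
      (Equiv.congr_fun (hc.pow_right i).eq b).symm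
    have := pres_f g b ((P 7 ^ i : Equiv.Perm Pt) b)
    rw [← e, ap_pow 7 i (by norm_num), ap_pow 7 i (by norm_num)] at this
    exact this
  have hX := allB_spec xOK_true q (n_eq ▸ q.isLt)
  have hpat1 : rel q (ap [7] q) = rel x0 (ap [7] x0) := hpat 1
  simp only [hpat, hpat1, beq_self_eq_true, Bool.and_self, Bool.not_true, Bool.false_or] at hX
  obtain ⟨⟨q', k, z⟩, -, hcand⟩ := anyB_spec hX
  simp only [Bool.and_eq_true, Nat.blt_eq] at hcand
  obtain ⟨⟨-, hz⟩, happ⟩ := hcand
  set w := rep z 11 ++ rep k 7 with hw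
  have hwlt : ∀ x ∈ w, x < 12 := fun x hx => by
    rcases List.mem_append.1 hx with h | h
    · exact rep_lt (by norm_num) x h
    · exact rep_lt (by norm_num) x h
  set Z := evalW P w with hZ
  have hZb : Z b = q := Fin.ext ((ap_eq w hwlt b).trans (Nat.eq_of_beq_eq_true happ))
  have htau : Commute tau (P 7) := by
    have h := rels_spec.2.1
    simp only [evalW, one_mul, show P 11 = tau from if_pos rfl] at h
    exact h.symm
  have hZe : Z = P 7 ^ k * tau ^ z := by
    rw [hZ, hw, evalW_append, rep_eval, rep_eval, show P 11 = tau from if_pos rfl]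
  have hZc : Commute Z (P 7) := by
    rw [hZe]
    exact ((Commute.refl _).pow_left k).mul_left (htau.pow_left z)
  set h := Z⁻¹ * fHom g with hh
  have hhc : Commute h (P 7) := hZc.inv_left.mul_left hc
  have hhb : h b = b := by
    rw [hh, Equiv.Perm.mul_apply, Equiv.Perm.inv_eq_iff_eq]
    exact hZb.symm
  have h1 : h = 1 := det xdRows_true xdDet_true ((pres_word w).inv.mul (pres_f g)) (by
    intro c hcm
    rw [xdBase_eq, List.mem_map] at hcm
    obtain ⟨i, -, hi⟩ := hcm
    have : c = (P 7 ^ i : Equiv.Perm Pt) b := Fin.ext (by rw [ap_pow 7 i (by norm_num)]; exact hi.symm)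
    rw [this, show h ((P 7 ^ i : Equiv.Perm Pt) b) = (P 7 ^ i : Equiv.Perm Pt) (h b) from
      Equiv.congr_fun (hhc.pow_right i).eq b, hhb])
  have hgZ : fHom g = P 7 ^ k * tau ^ z := by rw [← hZe]; exact (inv_mul_eq_one.1 h1).symm
  refine ⟨k, fHom_inj ?_⟩
  interval_cases z
  · rw [hgZ, pow_zero, mul_one, map_pow, P_el (by norm_num)]
  · have hs := congrArg Equiv.Perm.sign hgZ
    rw [map_mul, map_pow, map_pow, P_el (by norm_num), sign_f, sign_f, one_pow, one_mul, pow_one, sign_tau] at hs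
    exact absurd hs (by decide)

theorem fixed_cases {π : Equiv.Perm Pt} (hπ : Commute π (P 8)) (c : Pt) (hc : (P 8) c = c) :
    (π c : ℕ) = p0 ∨ (π c : ℕ) = p1 := by
  have e : (P 8) (π c) = π c := by
    rw [← Equiv.Perm.mul_apply, ← hπ.eq, Equiv.Perm.mul_apply, hc]
  have h := fixOK_true
  simp only [fixOK, Bool.and_eq_true] at h
  have h1 := allB_spec h.1.1.1 (π c : Pt) (n_eq ▸ (π c).isLt)
  rw [← P_img (by norm_num), e] at h1
  simp only [Nat.beq_refl, Bool.not_true, Bool.false_or, Bool.or_eq_true] at h1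
  exact h1.imp Nat.eq_of_beq_eq_true Nat.eq_of_beq_eq_true

theorem centralizer_y {g : SG} (hg : Commute g (el 8)) :
    ∃ k < 10, ∃ j < 2, g = el 8 ^ k * el 10 ^ j := by
  have hlt : p0 < SuzG24.tbl.n ∧ p1 < SuzG24.tbl.n ∧ c0 < SuzG24.tbl.n := by decide +kernel
  set a0 : Pt := ⟨p0, hlt.1⟩
  set a1 : Pt := ⟨p1, hlt.2.1⟩
  set b : Pt := ⟨c0, hlt.2.2⟩
  obtain ⟨⟨⟨-, hf0⟩, hf1⟩, hne⟩ : ((allB (fun c => !Nat.beq (img 8 c) c || (Nat.beq c p0 || Nat.beq c p1)) npt = true ∧
      Nat.beq (img 8 p0) p0 = true) ∧ Nat.beq (img 8 p1) p1 = true) ∧ Nat.beq p0 p1 = false := by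
    have h := fixOK_true
    simpa only [fixOK, Bool.and_eq_true, Bool.not_eq_true'] using h
  have ha0 : P 8 a0 = a0 := Fin.ext ((P_img (by norm_num) a0).trans (Nat.eq_of_beq_eq_true hf0))
  have ha1 : P 8 a1 = a1 := Fin.ext ((P_img (by norm_num) a1).trans (Nat.eq_of_beq_eq_true hf1))
  have hne' : p0 ≠ p1 := fun e => by rw [e, Nat.beq_refl] at hne; exact Bool.noConfusion hne
  have pair : ∀ π : Equiv.Perm Pt, Commute π (P 8) →
      ∃ s < 2, (π a0 : ℕ) = fp s ∧ (π a1 : ℕ) = fp (1 - s) := by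
    intro π hπ
    have hd : (π a0 : ℕ) ≠ (π a1 : ℕ) := fun e => hne' (congrArg Fin.val (π.injective (Fin.ext e)))
    rcases fixed_cases hπ a0 ha0 with h0 | h0 <;> rcases fixed_cases hπ a1 ha1 with h1 | h1
    · exact absurd (h0.trans h1.symm) hd
    · exact ⟨0, by norm_num, h0, h1⟩
    · exact ⟨1, by norm_num, h0, h1⟩
    · exact absurd (h0.trans h1.symm) hd
  have hc : Commute (fHom g) (P 8) := by rw [P_el (by norm_num)]; exact hg.map fHom
  obtain ⟨s, hs, hs0, hs1⟩ := pair _ hc
  set q := fHom g b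
  have hpat : ∀ i, rel q (ap (rep i 8) q) = rel c0 (ap (rep i 8) c0) := by
    intro i
    have e : (P 8 ^ i : Equiv.Perm Pt) q = fHom g ((P 8 ^ i : Equiv.Perm Pt) b) :=
      (Equiv.congr_fun (hc.pow_right i).eq b).symm
    have := pres_f g b ((P 8 ^ i : Equiv.Perm Pt) b)
    rw [← e, ap_pow 8 i (by norm_num), ap_pow 8 i (by norm_num)] at this
    exact this
  have hpat1 : rel q (ap [8] q) = rel c0 (ap [8] c0) := hpat 1
  have hpa : rel (fp s) q = rel p0 c0 := by rw [← hs0]; exact pres_f g a0 b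
  have hpb : rel (fp (1 - s)) q = rel p1 c0 := by rw [← hs1]; exact pres_f g a1 b
  have hY : yOK s = true := by
    interval_cases s
    · exact yOK0_true
    · exact yOK1_true
  have hY1 := allB_spec hY q (n_eq ▸ q.isLt)
  simp only [hpat, hpat1, hpa, hpb, beq_self_eq_true, Bool.and_self, Bool.not_true, Bool.false_or] at hY1
  obtain ⟨⟨s', q', k, z⟩, -, hcand⟩ := anyB_spec hY1
  simp only [Bool.and_eq_true, Nat.blt_eq] at hcand
  obtain ⟨⟨⟨⟨-, hk⟩, hz⟩, happ0⟩, happ⟩ := hcand
  set w := zWord z ++ rep k 8 with hw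
  have hzlt : ∀ x ∈ zWord z, x < 12 := by interval_cases z <;> decide +kernel
  have hwlt : ∀ x ∈ w, x < 12 := fun x hx => by
    rcases List.mem_append.1 hx with h | h
    · exact hzlt x h
    · exact rep_lt (by norm_num) x h
  set Z := evalW P w with hZ
  have hZe : Z = P 8 ^ k * evalW P (zWord z) := by rw [hZ, hw, evalW_append, rep_eval]
  have hZzc : Commute (evalW P (zWord z)) (P 8) := by
    have ht : Commute tau (P 8) := by
      have h := rels_spec.2.2.1
      simp only [evalW, one_mul, show P 11 = tau from if_pos rfl] at h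
      exact h.symm
    have he : Commute (P 10) (P 8) := by
      rw [P_el (by norm_num), P_el (by norm_num)]
      exact Commute.map (el_rels.2.2.2.2.2.2.1) fHom
    interval_cases z <;> simp only [zWord, evalW, one_mul, show P 11 = tau from if_pos rfl]
    · exact Commute.one_left _
    · exact he
    · exact ht
    · exact ht.mul_left he
  have hZc : Commute Z (P 8) := by rw [hZe]; exact ((Commute.refl _).pow_left k).mul_left hZzc
  have hZa0 : Z a0 = fHom g a0 := by
    refine Fin.ext ?_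
    have e : ((P 8 ^ k : Equiv.Perm Pt)) (evalW P (zWord z) a0) = evalW P (zWord z) a0 := by
      have : P 8 (evalW P (zWord z) a0) = evalW P (zWord z) a0 := by
        rw [← Equiv.Perm.mul_apply, ← hZzc.eq, Equiv.Perm.mul_apply, ha0]
      exact Equiv.Perm.pow_apply_eq_self_of_apply_eq_self this k
    rw [hZe, Equiv.Perm.mul_apply, e, ap_eq _ hzlt, hs0]
    exact Nat.eq_of_beq_eq_true happ0
  have hZb : Z b = q := Fin.ext ((ap_eq w hwlt b).trans (Nat.eq_of_beq_eq_true happ))
  set h := Z⁻¹ * fHom g with hh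
  have hhc : Commute h (P 8) := hZc.inv_left.mul_left hc
  have hha : h a0 = a0 := by
    rw [hh, Equiv.Perm.mul_apply, Equiv.Perm.inv_eq_iff_eq]
    exact hZa0.symm
  have hhb : h b = b := by
    rw [hh, Equiv.Perm.mul_apply, Equiv.Perm.inv_eq_iff_eq]
    exact hZb.symm
  have hha1 : h a1 = a1 := by
    rcases fixed_cases hhc a1 ha1 with e | e
    · have : h a1 = h a0 := by rw [hha]; exact Fin.ext e
      exact absurd (congrArg Fin.val (h.injective this)).symm hne'
    · exact Fin.ext e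
  have h1 : h = 1 := det ydRows_true ydDet_true ((pres_word w).inv.mul (pres_f g)) (by
    intro c hcm
    rw [ydBase_eq, List.mem_cons, List.mem_cons, List.mem_map] at hcm
    rcases hcm with e | e | ⟨i, -, hi⟩
    · rw [show c = a0 from Fin.ext e]; exact hha
    · rw [show c = a1 from Fin.ext e]; exact hha1
    · have : c = (P 8 ^ i : Equiv.Perm Pt) b := Fin.ext (by rw [ap_pow 8 i (by norm_num)]; exact hi.symm)
      rw [this, show h ((P 8 ^ i : Equiv.Perm Pt) b) = (P 8 ^ i : Equiv.Perm Pt) (h b) from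
        Equiv.congr_fun (hhc.pow_right i).eq b, hhb])
  have hgZ : fHom g = P 8 ^ k * evalW P (zWord z) := by rw [← hZe]; exact (inv_mul_eq_one.1 h1).symm
  have h8 : P 8 = fHom (el 8) := P_el (by norm_num)
  have h10 : P 10 = fHom (el 10) := P_el (by norm_num)
  have hodd : Equiv.Perm.sign (evalW P (zWord z)) ≠ -1 := fun e => by
    have hs := congrArg Equiv.Perm.sign hgZ
    rw [map_mul, map_pow, h8, sign_f, sign_f, one_pow, one_mul, e] at hs
    exact absurd hs (by decide)
  refine ⟨k, hk, ?_⟩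
  interval_cases z
  · exact ⟨0, by norm_num, fHom_inj (by rw [hgZ, h8]; simp [zWord, evalW])⟩
  · exact ⟨1, by norm_num, fHom_inj (by rw [hgZ, h8]; simp [zWord, evalW, h10])⟩
  · exact absurd (by simp [zWord, evalW, sign_tau, show P 11 = tau from if_pos rfl]) hodd
  · exact absurd (by simp [zWord, evalW, sign_tau, show P 11 = tau from if_pos rfl, h10, sign_f]) hodd

end Cfsg.Agent.FGS4.SuzOut
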