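import Cfsg.Agent.FGS4.SuzOut.Ops

/-!
# Checks on the letters
-/

set_option autoImplicit false
set_option maxRecDepth 20000

namespace Cfsg.Agent.FGS4.SuzOut

theorem baseOK_true : baseOK = true := by decide +kernel

theorem newOK_true : newOK = true := by decide +kernel

theorem relsOK_true : relsOK = true := by decide +kernel

theorem gensOK_true : gensOK = true := by decide +kernel

theorem eCandOK_true : eCandOK = true := by decide +kernel

theorem uCandOK_true : uCandOK = true := by decide +kernel

theorem fixOK_true : fixOK = true := by decide +kernel

end Cfsg.Agent.FGS4.SuzOut
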