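import Cfsg.Agent.FGS4.SuzOut.Ops
import Cfsg.Agent.FGS4.SuzOut.DataX
/-!
# Checks for the first centraliser
-/

set_option autoImplicit false
set_option maxRecDepth 20000

namespace Cfsg.Agent.FGS4.SuzOut

theorem xOK_true : xOK = true := by decide +kernel

theorem xdRows_true : rowsOK (xdBase ++ xdSel) xdRows = true := by decide +kernel

theorem xdDet_true : detOK xdBase xdSel xdRows xdStage xdFull = true := by decide +kernel

theorem xdBase_eq : xdBase = (List.range 11).map fun i => ap (rep i 7) x0 := by decide +kernel

end Cfsg.Agent.FGS4.SuzOut
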