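import Cfsg.Agent.FGS4.SuzOut.Ops
import Cfsg.Agent.FGS4.SuzOut.DataY
/-!
# Checks for the second centraliser
-/

set_option autoImplicit false
set_option maxRecDepth 20000

namespace Cfsg.Agent.FGS4.SuzOut

theorem yOK0_true : yOK 0 = true := by decide +kernel

theorem yOK1_true : yOK 1 = true := by decide +kernel

theorem ydRows_true : rowsOK (ydBase ++ ydSel) ydRows = true := by decide +kernel

theorem ydDet_true : detOK ydBase ydSel ydRows ydStage ydFull = true := by decide +kernel

theorem ydBase_eq : ydBase = p0 :: p1 :: (List.range 10).map fun i => ap (rep i 8) c0 := by decide +kernel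

end Cfsg.Agent.FGS4.SuzOut
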