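import Cfsg.Prelude.Def_KGroupFacts
import Cfsg.Agent.Screen.CosetEnum.SuzOrd.Main
import Cfsg.Agent.FGS4.SuzOut.CheckA
import Cfsg.Agent.FGS4.SuzOut.CheckX
import Cfsg.Agent.FGS4.SuzOut.CheckY

/-!
# The outer automorphism group of the Suzuki sporadic group
-/

set_option autoImplicit false
set_option maxRecDepth 20000

namespace Cfsg.Agent.FGS4.SuzOut

open Cfsg.Agent.Screen.CosetEnum

/-- The points. -/
abbrev Pt : Type := Fin SuzG24.tbl.n

/-- The group. -/
abbrev SG : Type := Cfsg.Spor.Suz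

theorem n_eq : SuzG24.tbl.n = npt := rfl

/-- The base point. -/
def pt0 : Pt := ⟨0, by decide +kernel⟩

theorem exists_perm_hom : ∃ f : SG →* Equiv.Perm Pt, Function.Injective f ∧
    (∀ x < 7, ∀ c : Pt, ((f (PresSuz.gens x) c : Pt) : ℕ) = img x c) ∧
    (∀ k : SG, f k pt0 = pt0 → ∀ c : Pt, bit SuzG24.orb1 (f k c : Pt) = bit SuzG24.orb1 c) := by
  obtain ⟨f, hf⟩ := PresSuz.exists_hom SuzG24.checked.perm (fun x => SuzG24.checked.perm_sq x) SuzG24.checked.perm_rel
  have himg : ∀ x < 7, ∀ c : Pt, ((f (PresSuz.gens x) c : Pt) : ℕ) = img x c := by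
    intro x hx c
    have h := allB_spec baseOK_true c (n_eq ▸ c.isLt)
    simp only [Bool.and_eq_true] at h
    rw [hf x hx, SuzG24.checked.perm_apply hx]
    exact (Nat.eq_of_beq_eq_true (allB_spec h.1.1 x hx)).symm
  obtain ⟨hsimple, -⟩ := SuzOrd.isSimple_and_card
  haveI := hsimple
  have hinj : Function.Injective f := by
    rw [← MonoidHom.ker_eq_bot_iff]
    rcases (inferInstance : f.ker.Normal).eq_bot_or_eq_top with h | h
    · exact h
    · exfalso
      have hmove : ∀ c : Pt, img 0 c = c := fun c => by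
        have h1 : f (PresSuz.gens 0) = 1 := MonoidHom.mem_ker.1 (h ▸ Subgroup.mem_top _)
        rw [← himg 0 (by norm_num) c, h1, Equiv.Perm.one_apply]
      have hd : ∃ c < SuzG24.tbl.n, img 0 c ≠ c := ⟨2, by decide +kernel, by decide +kernel⟩
      obtain ⟨c, hc, hne⟩ := hd
      exact hne (hmove ⟨c, hc⟩)
  obtain ⟨H, hH⟩ : ∃ H : Subgroup SG,
      H = Subgroup.closure {g | ∃ w ∈ SuzG24.tbl.subs, g = evalW PresSuz.gens w} := ⟨_, rfl⟩
  obtain ⟨e, he0, he⟩ := SuzG24.checked.exists_equiv PresSuz.gens PresSuz.gens_sq PresSuz.gens_out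
    PresSuz.gens_rels PresSuz.gens_top H hH f hf
  refine ⟨f, hinj, himg, fun k hk c => ?_⟩
  have hkH : k ∈ H := by
    have h1 := he k pt0
    rw [hk, show e pt0 = (QuotientGroup.mk 1 : SG ⧸ H) from he0, MulAction.Quotient.smul_mk, smul_eq_mul, mul_one,
      QuotientGroup.eq, mul_one] at h1
    exact inv_inv k ▸ inv_mem h1
  obtain ⟨s, -, -, hiff⟩ := SuzG24.checked.orbit PresSuz.gens hH hf e he SuzG24.orbit1
  rw [Bool.eq_iff_iff, ← hiff, ← hiff, ← he]
  exact MulAction.orbit_eq_iff.symm.trans ((iff_of_eq (congrArg (· = _)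
    (MulAction.orbit_eq_iff.2 (MulAction.mem_orbit (e c) (⟨k, hkH⟩ : H))))).trans MulAction.orbit_eq_iff)

/-- The representation. -/
noncomputable def fHom : SG →* Equiv.Perm Pt := exists_perm_hom.choose

theorem fHom_inj : Function.Injective fHom := exists_perm_hom.choose_spec.1
theorem fHom_img : ∀ x < 7, ∀ c : Pt, ((fHom (PresSuz.gens x) c : Pt) : ℕ) = img x c :=
  exists_perm_hom.choose_spec.2.1
theorem fHom_stab : ∀ k : SG, fHom k pt0 = pt0 → ∀ c : Pt, bit SuzG24.orb1 (fHom k c : Pt) = bit SuzG24.orb1 c :=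
  exists_perm_hom.choose_spec.2.2

theorem new_at (c : Pt) : img 7 c = ap [4, 6, 1, 2, 5, 0, 3] c ∧ img 8 c = ap yWord c ∧ img 9 c = ap uWord c ∧
    img 10 c = ap eWord c ∧ img 11 c < npt ∧ img 11 (img 11 c) = c ∧ img 11 c ≠ c ∧
    rel (img 11 0) (img 11 c) = bit SuzG24.orb1 c := by
  have h := allB_spec newOK_true c (n_eq ▸ c.isLt)
  simp only [Bool.and_eq_true, Nat.blt_eq, Bool.not_eq_true', beq_iff_eq] at h
  obtain ⟨⟨⟨⟨⟨⟨⟨a, b⟩, d⟩, e⟩, g⟩, i⟩, j⟩, k⟩ := h
  refine ⟨Nat.eq_of_beq_eq_true a, Nat.eq_of_beq_eq_true b, Nat.eq_of_beq_eq_true d, Nat.eq_of_beq_eq_true e, g,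
    Nat.eq_of_beq_eq_true i, fun hh => ?_, k⟩
  rw [hh] at j
  simp at j

/-- The outer involution. -/
def tau : Equiv.Perm Pt where
  toFun c := ⟨img 11 c, (new_at c).2.2.2.2.1⟩
  invFun c := ⟨img 11 c, (new_at c).2.2.2.2.1⟩
  left_inv c := Fin.ext (new_at c).2.2.2.2.2.1
  right_inv c := Fin.ext (new_at c).2.2.2.2.2.1

theorem tau_tau : tau * tau = 1 := Equiv.ext fun c => Fin.ext (new_at c).2.2.2.2.2.1

/-- The group elements of the letters. -/
noncomputable def el (j : ℕ) : SG :=
  if j = 7 then evalW PresSuz.gens [4, 6, 1, 2, 5, 0, 3] else if j = 8 then evalW PresSuz.gens yWord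
  else if j = 9 then evalW PresSuz.gens uWord else if j = 10 then evalW PresSuz.gens eWord else PresSuz.gens j

/-- The permutations of the letters. -/
noncomputable def P (j : ℕ) : Equiv.Perm Pt := if j = 11 then tau else fHom (el j)

theorem ap_gens : ∀ w : List ℕ, (∀ x ∈ w, x < 7) → ∀ c : Pt,
    ((fHom (evalW PresSuz.gens w) c : Pt) : ℕ) = ap w c := by
  intro w
  induction w with
  | nil => intro _ c; simp [evalW, ap]
  | cons a w ih =>
    intro hw c
    rw [evalW, map_mul, Equiv.Perm.mul_apply, ih fun x hx => hw x (List.mem_cons_of_mem _ hx),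
      fHom_img a (hw a List.mem_cons_self), ap, force_eq]

theorem P_img {j : ℕ} (hj : j < 12) (c : Pt) : ((P j c : Pt) : ℕ) = img j c := by
  obtain ⟨h7, h8, h9, h10, -⟩ := new_at c
  unfold P el
  interval_cases j <;> norm_num <;>
    first
      | exact fHom_img _ (by norm_num) c
      | rfl
      | (rw [ap_gens _ (by decide +kernel)]; first | exact h7.symm | exact h8.symm | exact h9.symm | exact h10.symm)

theorem ap_eq : ∀ w : List ℕ, (∀ x ∈ w, x < 12) → ∀ c : Pt, ((evalW P w c : Pt) : ℕ) = ap w c := by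
  intro w
  induction w with
  | nil => intro _ c; simp [evalW, ap]
  | cons a w ih =>
    intro hw c
    rw [evalW, Equiv.Perm.mul_apply, ih fun x hx => hw x (List.mem_cons_of_mem _ hx),
      P_img (hw a List.mem_cons_self), ap, force_eq]

theorem eqW_perm {v w : List ℕ} (h : eqW v w = true) (hv : ∀ x ∈ v, x < 12) (hw : ∀ x ∈ w, x < 12) :
    evalW P v = evalW P w :=
  Equiv.ext fun c => Fin.ext (by
    rw [ap_eq v hv, ap_eq w hw]
    exact Nat.eq_of_beq_eq_true (allB_spec h c (n_eq ▸ c.isLt)))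

theorem evalP_el : ∀ w : List ℕ, (∀ x ∈ w, x < 11) → evalW P w = fHom (evalW el w) := by
  intro w
  induction w with
  | nil => intro _; simp [evalW]
  | cons a w ih =>
    intro hw
    have ha := hw a List.mem_cons_self
    rw [evalW, evalW, map_mul, ih fun x hx => hw x (List.mem_cons_of_mem _ hx), P, if_neg (by omega)]

theorem eqW_el {v w : List ℕ} (h : eqW v w = true) (hv : ∀ x ∈ v, x < 11) (hw : ∀ x ∈ w, x < 11) :
    evalW el v = evalW el w := by
  refine fHom_inj ?_
  rw [← evalP_el v hv, ← evalP_el w hw]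
  exact eqW_perm h (fun x hx => (hv x hx).trans (by norm_num)) fun x hx => (hw x hx).trans (by norm_num)

theorem eqW_of_el {w : List ℕ} (hw : ∀ x ∈ w, x < 11) (h : evalW el w = 1) : eqW w [] = true := by
  have key : ∀ k, (∀ c < k, Nat.beq (ap w c) (ap [] c) = true) → allB (fun c => Nat.beq (ap w c) (ap [] c)) k = true := by
    intro k
    induction k with
    | zero => intro _; rfl
    | succ k ih =>
      intro hk
      rw [allB, hk k (Nat.lt_succ_self k), ih fun c hc => hk c (Nat.lt_succ_of_lt hc)]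
      rfl
  refine key _ fun c hc => ?_
  have e := ap_eq w (fun x hx => (hw x hx).trans (by norm_num)) ⟨c, n_eq ▸ hc⟩
  rw [evalP_el w hw, h, map_one, Equiv.Perm.one_apply] at e
  simp only [ap, ← e]
  exact Nat.beq_refl c

theorem moves_ne {w : List ℕ} (hw : ∀ x ∈ w, x < 11) (h : moves w = true) : evalW el w ≠ 1 := fun e => by
  rw [moves, eqW_of_el hw e] at h
  simp at h

theorem rep_eval {M : Type*} [Group M] (σ : ℕ → M) (k x : ℕ) : evalW σ (rep k x) = σ x ^ k := by
  induction k with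
  | zero => simp [rep, evalW]
  | succ k ih => rw [rep, List.replicate_succ, evalW, ← rep, ih, pow_succ]

theorem rep_lt {k x b : ℕ} (h : x < b) : ∀ y ∈ rep k x, y < b := fun y hy => by
  rw [rep, List.mem_replicate] at hy
  omega

/-- A permutation preserving the orbital. -/
def Pres (π : Equiv.Perm Pt) : Prop := ∀ u v : Pt, rel (π u : Pt) (π v : Pt) = rel u v

theorem Pres.mul {π ρ : Equiv.Perm Pt} (h : Pres π) (h' : Pres ρ) : Pres (π * ρ) := fun u v => by
  rw [Equiv.Perm.mul_apply, Equiv.Perm.mul_apply, h, h']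

theorem Pres.inv {π : Equiv.Perm Pt} (h : Pres π) : Pres π⁻¹ := fun u v => by
  rw [← h (π⁻¹ u) (π⁻¹ v)]
  simp

/-- The element taking a point to the base point. -/
noncomputable def down (u : Pt) : SG := evalW PresSuz.gens (toBase u)

theorem down_apply (u v : Pt) : ((fHom (down u) v : Pt) : ℕ) = ap (toBase u) v := by
  have h := allB_spec baseOK_true u (n_eq ▸ u.isLt)
  simp only [Bool.and_eq_true, List.all_eq_true, Nat.blt_eq] at h
  exact ap_gens _ h.2 v

theorem down_self (u : Pt) : fHom (down u) u = pt0 := Fin.ext (by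
  have h := allB_spec baseOK_true u (n_eq ▸ u.isLt)
  simp only [Bool.and_eq_true] at h
  rw [down_apply]
  exact Nat.eq_of_beq_eq_true h.1.2)

theorem rel_eq (u v : Pt) : rel u v = bit SuzG24.orb1 (fHom (down u) v : Pt) := by rw [down_apply]; rfl

theorem pres_f (g : SG) : Pres (fHom g) := fun u v => by
  rw [rel_eq, rel_eq]
  have hk : fHom (down (fHom g u) * g * (down u)⁻¹) pt0 = pt0 := by
    rw [map_mul, map_mul, map_inv, Equiv.Perm.mul_apply, Equiv.Perm.mul_apply,
      show (fHom (down u))⁻¹ pt0 = u by rw [Equiv.Perm.inv_eq_iff_eq, down_self], down_self]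
  have h := fHom_stab _ hk (fHom (down u) v)
  rw [map_mul, map_mul, map_inv, Equiv.Perm.mul_apply, Equiv.Perm.mul_apply, Equiv.Perm.inv_def,
    Equiv.symm_apply_apply] at h
  exact h

theorem rels_spec : evalW P [7, 8] = evalW P ([8] ++ rep 2 7) ∧ evalW P [11, 7] = evalW P [7, 11] ∧
    evalW P [11, 8] = evalW P [8, 11] ∧ evalW P [11, 10] = evalW P [10, 11] ∧
    evalW P [11, 9, 11] = evalW P uWord2 := by
  have h := relsOK_true
  simp only [relsOK, Bool.and_eq_true] at h
  obtain ⟨⟨⟨⟨⟨⟨⟨⟨⟨⟨⟨⟨⟨⟨⟨a, b⟩, c⟩, d⟩, e⟩, -⟩, -⟩, -⟩, -⟩, -⟩, -⟩, -⟩, -⟩, -⟩, -⟩, -⟩ := h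
  exact ⟨eqW_perm a (by decide +kernel) (by decide +kernel), eqW_perm b (by decide +kernel) (by decide +kernel),
    eqW_perm c (by decide +kernel) (by decide +kernel), eqW_perm d (by decide +kernel) (by decide +kernel),
    eqW_perm e (by decide +kernel) (by decide +kernel)⟩

theorem el_rels : el 8 * el 7 = el 7 ^ 2 * el 8 ∧ el 9 * el 8 = el 8 ^ 6 * el 10 * el 9 ∧ el 7 ^ 11 = 1 ∧
    el 8 ^ 10 = 1 ∧ el 9 ^ 3 = 1 ∧ el 10 * el 10 = 1 ∧ el 10 * el 8 = el 8 * el 10 ∧ el 10 ≠ 1 ∧ el 7 ≠ 1 ∧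
    (el 7 * el 10) ^ 12 = 1 ∧ (el 7 * el 9) ^ 12 = 1 ∧ el 10 ≠ el 8 ^ 5 := by
  have h := relsOK_true
  simp only [relsOK, Bool.and_eq_true] at h
  obtain ⟨⟨⟨⟨⟨⟨⟨⟨⟨⟨⟨⟨⟨⟨⟨a, -⟩, -⟩, -⟩, -⟩, f⟩, g⟩, i⟩, j⟩, k⟩, l⟩, m⟩, n⟩, o⟩, q⟩, r⟩ := h
  refine ⟨?_, ?_, ?_, ?_, ?_, ?_, ?_, ?_, ?_, ?_, ?_, ?_⟩
  · simpa [evalW, rep, pow_two] using eqW_el a (by decide +kernel) (by decide +kernel)
  · simpa [evalW, evalW_append, rep_eval] using eqW_el f (by decide +kernel) (by decide +kernel)
  · simpa [evalW, evalW_pw] using eqW_el g (by decide +kernel) (by decide +kernel)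
  · simpa [evalW, evalW_pw] using eqW_el i (by decide +kernel) (by decide +kernel)
  · simpa [evalW, pow_succ] using eqW_el j (by decide +kernel) (by decide +kernel)
  · simpa [evalW] using eqW_el k (by decide +kernel) (by decide +kernel)
  · simpa [evalW] using eqW_el l (by decide +kernel) (by decide +kernel)
  · simpa [evalW] using moves_ne (w := [10]) (by decide +kernel) n
  · simpa [evalW] using moves_ne (w := [7]) (by decide +kernel) o
  · simpa [evalW, evalW_pw] using eqW_el q (by decide +kernel) (by decide +kernel)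
  · simpa [evalW, evalW_pw] using eqW_el r (by decide +kernel) (by decide +kernel)
  · intro e
    have h1 : eqW [10] (rep 5 8) = false := by simpa using m
    have h2 : eqW [10] (rep 5 8) = true := by
      have key : ∀ k, (∀ c < k, Nat.beq (ap [10] c) (ap (rep 5 8) c) = true) →
          allB (fun c => Nat.beq (ap [10] c) (ap (rep 5 8) c)) k = true := by
        intro k
        induction k with
        | zero => intro _; rfl
        | succ k ih =>
          intro hk
          rw [allB, hk k (Nat.lt_succ_self k), ih fun c hc => hk c (Nat.lt_succ_of_lt hc)]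
          rfl
      refine key _ fun c hc => ?_
      have e1 : evalW el [10] = evalW el (rep 5 8) := by simpa [evalW, rep_eval] using e
      have e2 := congrArg fHom e1
      rw [← evalP_el _ (by decide +kernel), ← evalP_el _ (by decide +kernel)] at e2
      rw [← ap_eq [10] (by decide +kernel) ⟨c, n_eq ▸ hc⟩, ← ap_eq (rep 5 8) (by decide +kernel) ⟨c, n_eq ▸ hc⟩, e2]
      exact Nat.beq_refl _
    rw [h1] at h2
    exact Bool.noConfusion h2

theorem gen_top (K : Subgroup SG) (h7 : el 7 ∈ K) (h8 : el 8 ∈ K) (h9 : el 9 ∈ K) (h10 : el 10 ∈ K) : K = ⊤ := by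
  have step : ∀ j < 7, (∀ x ∈ earlier j, el x ∈ K) → el j ∈ K := by
    intro j hj hprev
    have h := allB_spec gensOK_true j hj
    simp only [force_eq, Bool.and_eq_true, List.all_eq_true] at h
    have hlt : ∀ x ∈ earlier j, x < 11 := by interval_cases j <;> decide +kernel
    have hmem : ∀ x ∈ genWords.getD j [], x ∈ earlier j := fun x hx => by
      obtain ⟨a, ha, hxa⟩ := anyB_spec (h.2 x hx)
      exact (Nat.eq_of_beq_eq_true hxa) ▸ ha
    have e := eqW_el h.1 (by intro x hx; simp at hx; omega) fun x hx => hlt x (hmem x hx)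
    simp only [evalW, one_mul] at e
    rw [e]
    have : ∀ w : List ℕ, (∀ x ∈ w, el x ∈ K) → evalW el w ∈ K := fun w hw => by
      induction w with
      | nil => exact one_mem K
      | cons a w ih => exact mul_mem (ih fun x hx => hw x (List.mem_cons_of_mem _ hx)) (hw a List.mem_cons_self)
    exact this _ fun x hx => hprev x (hmem x hx)
  have g0 : el 0 ∈ K := step 0 (by norm_num) (by simp [earlier, h7, h8, h9, h10])
  have g3 : el 3 ∈ K := step 3 (by norm_num) (by simp [earlier, h7, h8, h9, h10, g0])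
  have g4 : el 4 ∈ K := step 4 (by norm_num) (by simp [earlier, h7, h8, h9, h10, g0, g3])
  have g1 : el 1 ∈ K := step 1 (by norm_num) (by simp [earlier, h7, h8, h9, h10, g0, g3, g4])
  have g5 : el 5 ∈ K := step 5 (by norm_num) (by simp [earlier, h7, h8, h9, h10, g0, g3, g4, g1])
  have g2 : el 2 ∈ K := step 2 (by norm_num) (by simp [earlier, h7, h8, h9, h10, g0, g3, g4, g1, g5])
  have g6 : el 6 ∈ K := step 6 (by norm_num) (by simp [earlier, h7, h8, h9, h10, g0, g3, g4, g1, g5, g2])
  rw [eq_top_iff, ← PresSuz.gens_top, Subgroup.closure_le]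
  rintro _ ⟨x, rfl⟩
  by_cases hx : x < 7
  · have : el x = PresSuz.gens x := by simp [el]; interval_cases x <;> norm_num
    rw [← this]
    interval_cases x <;> assumption
  · rw [PresSuz.gens_out x (by omega)]
    exact one_mem K

theorem exists_conj_tau (g : SG) : ∃ g' : SG, fHom g' = tau * fHom g * tau := by
  obtain ⟨-, r7, r8, r10, r9⟩ := rels_spec
  have hP : ∀ j, j ≠ 11 → P j = fHom (el j) := fun j hj => if_neg hj
  have hc : ∀ j, j ≠ 11 → evalW P [11, j] = evalW P [j, 11] → fHom (el j) = tau * fHom (el j) * tau := by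
    intro j hj h
    simp only [evalW, one_mul, show P 11 = tau from if_pos rfl, hP j hj] at h
    rw [← h, mul_assoc, tau_tau, mul_one]
  let K : Subgroup SG :=
    { carrier := {g | ∃ g' : SG, fHom g' = tau * fHom g * tau}
      one_mem' := ⟨1, by rw [map_one, mul_one, tau_tau]⟩
      mul_mem' := by
        rintro a b ⟨a', ha⟩ ⟨b', hb⟩
        refine ⟨a' * b', ?_⟩
        rw [map_mul, map_mul, ha, hb, show tau * fHom a * tau * (tau * fHom b * tau) =
          tau * fHom a * (tau * tau) * fHom b * tau by simp only [mul_assoc], tau_tau]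
        simp only [mul_one, mul_assoc]
      inv_mem' := by
        rintro a ⟨a', ha⟩
        refine ⟨a'⁻¹, ?_⟩
        rw [map_inv, map_inv, ha, mul_inv_rev, mul_inv_rev, inv_eq_of_mul_eq_one_right tau_tau, mul_assoc] }
  have h9 : el 9 ∈ K := by
    refine ⟨el 9 * el 8 ^ 5, ?_⟩
    simp only [uWord2, evalW, evalW_append, rep_eval, one_mul, show P 11 = tau from if_pos rfl,
      hP 9 (by norm_num), hP 8 (by norm_num)] at r9
    rw [map_mul, map_pow, ← r9]
  have hK := gen_top K ⟨_, hc 7 (by norm_num) r7⟩ ⟨_, hc 8 (by norm_num) r8⟩ h9 ⟨_, hc 10 (by norm_num) r10⟩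
  exact (hK ▸ Subgroup.mem_top g : g ∈ K)

theorem pres_tau : Pres tau := by
  intro u v
  set g := (down u)⁻¹
  obtain ⟨g', hg'⟩ := exists_conj_tau g
  have hu : fHom g pt0 = u := by
    show fHom (down u)⁻¹ pt0 = u
    rw [map_inv, Equiv.Perm.inv_eq_iff_eq, down_self]
  have hv : fHom g (fHom (down u) v) = v := by
    show fHom (down u)⁻¹ _ = v
    rw [map_inv, Equiv.Perm.inv_def, Equiv.symm_apply_apply]
  have ht : ∀ x, tau (tau x) = x := fun x => Equiv.congr_fun tau_tau x
  have e1 : fHom g' (tau pt0) = tau u := by rw [hg', Equiv.Perm.mul_apply, Equiv.Perm.mul_apply, ht, hu]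
  have e2 : fHom g' (tau (fHom (down u) v)) = tau v := by
    rw [hg', Equiv.Perm.mul_apply, Equiv.Perm.mul_apply, ht, hv]
  rw [← e1, ← e2, pres_f g', rel_eq u v]
  exact (new_at (fHom (down u) v)).2.2.2.2.2.2.2

theorem sign_f (g : SG) : Equiv.Perm.sign (fHom g) = 1 := by
  obtain ⟨hsimple, hcard⟩ := SuzOrd.isSimple_and_card
  haveI := hsimple
  set s := Equiv.Perm.sign.comp fHom
  rcases (inferInstance : s.ker.Normal).eq_bot_or_eq_top with h | h
  · exfalso
    have := Nat.card_le_card_of_injective s ((MonoidHom.ker_eq_bot_iff s).1 h)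
    rw [hcard, Nat.card_eq_fintype_card, Fintype.card_units_int] at this
    omega
  · exact MonoidHom.mem_ker.1 (show g ∈ s.ker from h ▸ Subgroup.mem_top g)

theorem sign_tau : Equiv.Perm.sign tau = -1 := by
  haveI := Fact.mk Nat.prime_two
  have hsupp : tau.support = Finset.univ := Finset.eq_univ_of_forall fun c => by
    rw [Equiv.Perm.mem_support]
    exact fun e => (new_at c).2.2.2.2.2.2.1 (congrArg Fin.val e)
  have ho : orderOf tau = 2 := by
    refine orderOf_eq_prime (by rw [pow_two, tau_tau]) fun e => ?_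
    have h := Equiv.congr_fun e pt0
    exact (new_at pt0).2.2.2.2.2.2.1 (congrArg Fin.val h)
  obtain ⟨m, hm⟩ := Equiv.Perm.cycleType_prime_order (ho.symm ▸ Nat.prime_two : Nat.Prime (orderOf tau))
  have hs := Equiv.Perm.sum_cycleType tau
  rw [hm, hsupp, Multiset.sum_replicate, ho, smul_eq_mul, Finset.card_univ, Fintype.card_fin, n_eq] at hs
  rw [Equiv.Perm.sign_of_cycleType, hm, Multiset.sum_replicate, Multiset.card_replicate, ho, smul_eq_mul,
    show (m + 1) * 2 + (m + 1) = 2 * 1336 + 1 by simp only [npt] at hs; omega, pow_succ, pow_mul]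
  norm_num

theorem sign_P (w : List ℕ) (hw : ∀ x ∈ w, x < 11) : Equiv.Perm.sign (evalW P w) = 1 := by
  rw [evalP_el w hw, sign_f]

/-- Relation vectors are preserved. -/
theorem sigOf_congr (π : Equiv.Perm Pt) (v : Pt) : ∀ (rows : List ℕ) (acc : ℕ),
    (∀ r ∈ rows, bit r (π v : Pt) = bit r v) → sigOf rows acc (π v : Pt) = sigOf rows acc v := by
  intro rows
  induction rows with
  | nil => intro _ _; rfl
  | cons r rs ih =>
    intro acc h
    simp only [sigOf, force_eq, h r List.mem_cons_self]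
    exact ih _ fun r' hr' => h r' (List.mem_cons_of_mem _ hr')

theorem det {base sel rows : List ℕ} {t1 t2 : Tr} (hR : rowsOK (base ++ sel) rows = true)
    (hD : detOK base sel rows t1 t2 = true) {π : Equiv.Perm Pt} (hπ : Pres π)
    (hfix : ∀ c : Pt, (c : ℕ) ∈ base → π c = c) : π = 1 := by
  simp only [rowsOK, Bool.and_eq_true, List.all_eq_true, Nat.blt_eq] at hR
  obtain ⟨hlen, hrows⟩ := hR
  have hlen' := Nat.eq_of_beq_eq_true hlen
  have hbit : ∀ i (h1 : i < (base ++ sel).length) (h2 : i < rows.length) (b : Pt), (base ++ sel)[i] = (b : ℕ) →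
      π b = b → ∀ v : Pt, bit rows[i] (π v : Pt) = bit rows[i] v := by
    intro i h1 h2 b hb hfb v
    have hmem : ((base ++ sel)[i], rows[i]) ∈ (base ++ sel).zip rows := by
      rw [List.mem_iff_getElem]
      exact ⟨i, by rw [List.length_zip]; omega, List.getElem_zip⟩
    obtain ⟨-, hall⟩ := hrows _ hmem
    have e : ∀ w : Pt, bit rows[i] w = rel b w := fun w => by
      have := allB_spec hall w (n_eq ▸ w.isLt)
      simp only [beq_iff_eq, hb] at this
      exact this
    rw [e, e, ← hπ b v, hfb]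
  simp only [detOK, force_eq, Bool.and_eq_true, List.all_eq_true, Nat.blt_eq] at hD
  obtain ⟨hall, hsel⟩ := hD
  have hin : ∀ i (h1 : i < (base ++ sel).length), (base ++ sel)[i] < SuzG24.tbl.n := by
    intro i h1
    have hmem : ((base ++ sel)[i], rows[i]'(hlen' ▸ h1)) ∈ (base ++ sel).zip rows := by
      rw [List.mem_iff_getElem]
      exact ⟨i, by rw [List.length_zip]; omega, List.getElem_zip⟩
    exact n_eq ▸ (hrows _ hmem).1
  have hsig1 : ∀ v : Pt, sigOf (rows.take base.length) 0 (π v : Pt) = sigOf (rows.take base.length) 0 v := by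
    intro v
    refine sigOf_congr π v _ 0 fun r hr => ?_
    obtain ⟨i, hi, rfl⟩ := List.mem_iff_getElem.1 hr
    rw [List.length_take] at hi
    rw [List.getElem_take]
    have h1 : i < (base ++ sel).length := by rw [List.length_append]; omega
    refine hbit i h1 (by omega) ⟨_, hin i h1⟩ rfl (hfix _ ?_) v
    show (base ++ sel)[i] ∈ base
    rw [List.getElem_append_left (by omega)]
    exact List.getElem_mem _
  have hfix2 : ∀ s : Pt, (s : ℕ) ∈ sel → π s = s := by
    intro s hs
    obtain ⟨-, hs1⟩ := hsel _ hs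
    have h := allB_spec hall (π s : Pt) (n_eq ▸ (π s).isLt)
    simp only [force_eq, Bool.and_eq_true, Bool.or_eq_true, hsig1, Nat.eq_of_beq_eq_true hs1] at h
    refine Fin.ext ?_
    rcases h.1 with h1 | h1
    · exact (Nat.eq_of_beq_eq_true h1).symm
    · exact absurd (Nat.eq_of_beq_eq_true h1) (Nat.ne_of_lt (n_eq ▸ s.isLt))
  refine Equiv.ext fun v => Fin.ext ?_
  have hsig2 : sigOf rows 0 (π v : Pt) = sigOf rows 0 v := by
    refine sigOf_congr π v _ 0 fun r hr => ?_
    obtain ⟨i, hi, rfl⟩ := List.mem_iff_getElem.1 hr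
    have h1 : i < (base ++ sel).length := hlen' ▸ hi
    refine hbit i h1 hi ⟨_, hin i h1⟩ rfl ?_ v
    rcases List.mem_append.1 (List.getElem_mem h1) with h | h
    · exact hfix _ h
    · exact hfix2 _ h
  have e1 := allB_spec hall (π v : Pt) (n_eq ▸ (π v).isLt)
  have e2 := allB_spec hall v (n_eq ▸ v.isLt)
  simp only [force_eq, Bool.and_eq_true] at e1 e2
  rw [hsig2] at e1
  exact (Nat.eq_of_beq_eq_true e1.2).symm.trans (Nat.eq_of_beq_eq_true e2.2)

end Cfsg.Agent.FGS4.SuzOut
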