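import Cfsg.Agent.Screen.CosetEnum.SuzG24.Data
import Cfsg.Agent.Screen.CosetEnum.SuzG24.Orbits
import Cfsg.Agent.FGS4.SuzOut.Data

/-!
# Computable checks on the 1782 cosets
-/

set_option autoImplicit false
set_option maxRecDepth 20000

namespace Cfsg.Agent.FGS4.SuzOut

open Cfsg.Agent.Screen.CosetEnum

/-- The number of points. -/
def npt : ℕ := 1782

/-- `p` holds below the bound. -/
def allB (p : ℕ → Bool) : ℕ → Bool
  | 0 => true
  | k + 1 => p k && allB p k

theorem allB_spec {p : ℕ → Bool} : ∀ {k}, allB p k = true → ∀ c < k, p c = true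
  | 0, _, c, hc => absurd hc (Nat.not_lt_zero c)
  | k + 1, h, c, hc => by
    simp only [allB, Bool.and_eq_true] at h
    rcases Nat.lt_or_ge c k with hc' | hc'
    · exact allB_spec h.2 c hc'
    · obtain rfl : c = k := by omega
      exact h.1

/-- Some member of the list satisfies `p`. -/
def anyB {α : Type} (p : α → Bool) : List α → Bool
  | [] => false
  | a :: l => p a || anyB p l

theorem anyB_spec {α : Type} {p : α → Bool} : ∀ {l : List α}, anyB p l = true → ∃ a ∈ l, p a = true
  | [], h => Bool.noConfusion h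
  | a :: l, h => by
    simp only [anyB, Bool.or_eq_true] at h
    rcases h with h | h
    · exact ⟨a, List.mem_cons_self, h⟩
    · obtain ⟨b, hb, hp⟩ := anyB_spec h
      exact ⟨b, List.mem_cons_of_mem _ hb, hp⟩

/-- Image of a point under one of twelve letters. -/
def img (j c : ℕ) : ℕ := Nat.land (Nat.shiftRight (permTree.get c) (11 * j)) 2047

/-- Image under a word. -/
def ap : List ℕ → ℕ → ℕ
  | [], c => c
  | x :: w, c => force (img x c) fun d => ap w d

theorem ap_append : ∀ (w w' : List ℕ) (c : ℕ), ap (w ++ w') c = ap w' (ap w c)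
  | [], _, _ => rfl
  | x :: w, w', c => by
    rw [List.cons_append]
    simp only [ap, force_eq]
    exact ap_append w w' _

/-- Decode a word. -/
def dec : ℕ → ℕ → List ℕ
  | 0, _ => []
  | k + 1, m => bif Nat.ble m 1 then [] else (m % 8) :: dec k (m / 8)

theorem dec_lt : ∀ k m, ∀ x ∈ dec k m, x < 8
  | 0, _, x, hx => by simp [dec] at hx
  | k + 1, m, x, hx => by
    unfold dec at hx
    cases hb : Nat.ble m 1
    · rw [hb, cond_false] at hx
      rcases List.mem_cons.1 hx with rfl | hx
      · omega
      · exact dec_lt k _ x hx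
    · rw [hb, cond_true] at hx
      simp at hx

/-- A word taking a point to the base point. -/
def toBase (u : ℕ) : List ℕ := dec 24 (wordTree.get u)

/-- The orbital of size 416. -/
def rel (u v : ℕ) : Bool := bit SuzG24.orb1 (ap (toBase u) v)

/-- The letters are the right permutations. -/
def baseOK : Bool :=
  allB (fun c => allB (fun j => Nat.beq (img j c) (SuzG24.tbl.img c j)) 7 &&
    Nat.beq (ap (toBase c) c) 0 && (toBase c).all (fun x => Nat.blt x 7)) npt

/-- Two words act in the same way. -/
def eqW (v w : List ℕ) : Bool := allB (fun c => Nat.beq (ap v c) (ap w c)) npt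

/-- The new letters agree with their words, and the last is a fixed point free involution. -/
def newOK : Bool :=
  allB (fun c => Nat.beq (img 7 c) (ap [4, 6, 1, 2, 5, 0, 3] c) && Nat.beq (img 8 c) (ap yWord c) &&
    Nat.beq (img 9 c) (ap uWord c) && Nat.beq (img 10 c) (ap eWord c) && Nat.blt (img 11 c) npt &&
    Nat.beq (img 11 (img 11 c)) c && !Nat.beq (img 11 c) c &&
    (rel (img 11 0) (img 11 c) == bit SuzG24.orb1 c)) npt

/-- The relation vector of a point. -/
def sigOf : List ℕ → ℕ → ℕ → ℕ
  | [], acc, _ => acc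
  | r :: rs, acc, v => force (bif bit r v then 2 * acc + 1 else 2 * acc) fun a => sigOf rs a v

/-- The rows are right. -/
def rowsOK (B rows : List ℕ) : Bool :=
  Nat.beq B.length rows.length &&
    (B.zip rows).all fun br => Nat.blt br.1 npt && allB (fun v => bit br.2 v == rel br.1 v) npt

/-- The relation vectors separate the points in two stages. -/
def detOK (base sel rows : List ℕ) (t1 t2 : Tr) : Bool :=
  force base.length fun b =>
    allB (fun v => force (t1.get (sigOf (rows.take b) 0 v)) fun w =>
      (Nat.beq w v || Nat.beq w npt) && Nat.beq (t2.get (sigOf rows 0 v)) v) npt &&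
    sel.all fun s => Nat.blt s npt && Nat.beq (t1.get (sigOf (rows.take b) 0 s)) s

/-- `k` copies of a letter. -/
def rep (k x : ℕ) : List ℕ := List.replicate k x

/-- The first centraliser: candidates for the image of the base point. -/
def xOK : Bool :=
  allB (fun q => !((rel q (ap [7] q) == rel x0 (ap [7] x0)) && (rel q (ap (rep 2 7) q) == rel x0 (ap (rep 2 7) x0)) &&
      (rel q (ap (rep 3 7) q) == rel x0 (ap (rep 3 7) x0)) && (rel q (ap (rep 4 7) q) == rel x0 (ap (rep 4 7) x0)) &&
      (rel q (ap (rep 5 7) q) == rel x0 (ap (rep 5 7) x0))) ||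
    anyB (fun c => Nat.beq c.1 q && Nat.blt c.2.2 2 && Nat.beq (ap (rep c.2.2 11 ++ rep c.2.1 7) x0) q) xCands) npt

/-- The four automorphisms that fix the second multiplier. -/
def zWord : ℕ → List ℕ
  | 1 => [10]
  | 2 => [11]
  | 3 => [10, 11]
  | _ => []

/-- The two fixed points. -/
def fp (s : ℕ) : ℕ := bif Nat.beq s 0 then p0 else p1

/-- The second centraliser: candidates for the images of the base points. -/
def yOK (s : ℕ) : Bool :=
  allB (fun q => !((rel (fp s) q == rel p0 c0) && (rel (fp (1 - s)) q == rel p1 c0) &&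
      (rel q (ap [8] q) == rel c0 (ap [8] c0)) && (rel q (ap (rep 2 8) q) == rel c0 (ap (rep 2 8) c0)) &&
      (rel q (ap (rep 3 8) q) == rel c0 (ap (rep 3 8) c0)) && (rel q (ap (rep 4 8) q) == rel c0 (ap (rep 4 8) c0)) &&
      (rel q (ap (rep 5 8) q) == rel c0 (ap (rep 5 8) c0))) ||
    anyB (fun c => Nat.beq c.1 s && Nat.beq c.2.1 q && Nat.blt c.2.2.1 10 && Nat.blt c.2.2.2 4 &&
      Nat.beq (ap (zWord c.2.2.2) p0) (fp s) && Nat.beq (ap (zWord c.2.2.2 ++ rep c.2.2.1 8) c0) q) yCands) npt

/-- The fixed points of the multiplier. -/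
def fixOK : Bool :=
  allB (fun c => !Nat.beq (img 8 c) c || (Nat.beq c p0 || Nat.beq c p1)) npt && Nat.beq (img 8 p0) p0 &&
    Nat.beq (img 8 p1) p1 && !Nat.beq p0 p1

/-- A word moves some point. -/
def moves (w : List ℕ) : Bool := !eqW w []

/-- The twenty candidates for an image. -/
def candWord (i : ℕ) : List ℕ := rep (i / 10) 10 ++ rep (i % 10) 8

/-- The conjugate of the element of order three under the outer automorphism. -/
def uWord2 : List ℕ := rep 5 8 ++ [9]

/-- Only the involution itself is an image of it. -/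
def eCandOK : Bool :=
  allB (fun i => force i fun i => moves (candWord i ++ candWord i) ||
    moves (pw 12 (candWord i ++ [7])) || eqW (candWord i) [] || eqW (candWord i) (rep 5 8) || eqW (candWord i) [10]) 20

/-- Only two elements are images of the element of order three. -/
def uCandOK : Bool :=
  allB (fun i => force i fun i => moves (pw 3 (candWord i ++ [9])) ||
    moves (pw 12 (candWord i ++ [9, 7])) || eqW (candWord i ++ [9]) [9] || eqW (candWord i ++ [9]) uWord2) 20

/-- The relations among the new letters. -/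
def relsOK : Bool :=
  eqW [7, 8] ([8] ++ rep 2 7) && eqW [11, 7] [7, 11] && eqW [11, 8] [8, 11] && eqW [11, 10] [10, 11] &&
    eqW [11, 9, 11] uWord2 && eqW [8, 9] ([9, 10] ++ rep 6 8) && eqW (pw 11 [7]) [] && eqW (pw 10 [8]) [] &&
    eqW [9, 9, 9] [] && eqW [10, 10] [] && eqW [8, 10] [10, 8] && !eqW [10] (rep 5 8) && moves [10] && moves [7] &&
    eqW (pw 12 [10, 7]) [] && eqW (pw 12 [9, 7]) []

/-- Earlier letters in the chosen order. -/
def earlier : ℕ → List ℕ
  | 0 => [7, 8, 9, 10]
  | 3 => [7, 8, 9, 10, 0]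
  | 4 => [7, 8, 9, 10, 0, 3]
  | 1 => [7, 8, 9, 10, 0, 3, 4]
  | 5 => [7, 8, 9, 10, 0, 3, 4, 1]
  | 2 => [7, 8, 9, 10, 0, 3, 4, 1, 5]
  | _ => [7, 8, 9, 10, 0, 3, 4, 1, 5, 2]

/-- The generators in the new letters. -/
def gensOK : Bool :=
  allB (fun j => force j fun j => eqW [j] (genWords.getD j []) &&
    (genWords.getD j []).all fun x => anyB (Nat.beq x) (earlier j)) 7

end Cfsg.Agent.FGS4.SuzOut
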