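import Cfsg.Agent.FGS4.SuzOut.Centralizer

/-!
# The two classes of automorphisms
-/

set_option autoImplicit false
set_option maxRecDepth 20000

namespace Cfsg.Agent.FGS4.SuzOut

open Cfsg.Agent.Screen.CosetEnum

theorem candWord_eval (k j : ℕ) (hk : k < 10) : evalW el (candWord (10 * j + k)) = el 8 ^ k * el 10 ^ j := by
  rw [candWord, show (10 * j + k) / 10 = j by omega, show (10 * j + k) % 10 = k by omega, evalW_append,
    rep_eval, rep_eval]

theorem candWord_lt (i : ℕ) : ∀ x ∈ candWord i, x < 11 := fun x hx => by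
  rcases List.mem_append.1 hx with h | h
  · exact rep_lt (by norm_num) x h
  · exact rep_lt (by norm_num) x h

theorem append_lt {v w : List ℕ} (hv : ∀ x ∈ v, x < 11) (hw : ∀ x ∈ w, x < 11) : ∀ x ∈ v ++ w, x < 11 :=
  fun x hx => by rcases List.mem_append.1 hx with h | h <;> [exact hv x h; exact hw x h]

theorem pw_lt {v : List ℕ} (hv : ∀ x ∈ v, x < 11) : ∀ m, ∀ x ∈ pw m v, x < 11
  | 0, x, hx => by simp [pw] at hx
  | m + 1, x, hx => by rw [pw] at hx; exact append_lt (pw_lt hv m) hv x hx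

/-- The images of the involution. -/
theorem image_e {g : SG} (hc : Commute g (el 8)) (h2 : g * g = 1) (h12 : (el 7 * g) ^ 12 = 1) :
    g = 1 ∨ g = el 8 ^ 5 ∨ g = el 10 := by
  obtain ⟨k, hk, j, hj, rfl⟩ := centralizer_y hc
  have h := allB_spec eCandOK_true (10 * j + k) (by omega)
  simp only [force_eq, Bool.or_eq_true] at h
  have hev := candWord_eval k j hk
  have hlt := candWord_lt (10 * j + k)
  rcases h with (((h | h) | h) | h) | h
  · exact absurd (by rw [evalW_append, hev, h2]) (moves_ne (append_lt hlt hlt) h)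
  · refine absurd ?_ (moves_ne (pw_lt (append_lt hlt (by decide +kernel)) 12) h)
    rw [evalW_pw, evalW_append, hev]
    simpa [evalW] using h12
  · left
    rw [← hev, eqW_el h hlt (by simp)]
    rfl
  · right; left
    rw [← hev, eqW_el h hlt (rep_lt (by norm_num)), rep_eval]
  · right; right
    rw [← hev, eqW_el h hlt (by decide +kernel)]
    simp [evalW]

/-- The images of the element of order three. -/
theorem image_u {u' : SG} (h8 : u' * el 8 = el 8 ^ 6 * el 10 * u') (h3 : u' ^ 3 = 1)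
    (h12 : (el 7 * u') ^ 12 = 1) : u' = el 9 ∨ u' = el 9 * el 8 ^ 5 := by
  have hc : Commute ((el 9)⁻¹ * u') (el 8) := by
    show (el 9)⁻¹ * u' * el 8 = el 8 * ((el 9)⁻¹ * u')
    rw [mul_assoc, h8]
    simp only [← mul_assoc]
    refine congrArg (· * u') ?_
    rw [mul_assoc (el 9)⁻¹, inv_mul_eq_iff_eq_mul, eq_comm, ← mul_assoc, mul_inv_eq_iff_eq_mul]
    exact el_rels.2.1
  obtain ⟨k, hk, j, hj, hg⟩ := centralizer_y hc
  have hu : u' = el 9 * (el 8 ^ k * el 10 ^ j) := inv_mul_eq_iff_eq_mul.1 hg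
  have h := allB_spec uCandOK_true (10 * j + k) (by omega)
  simp only [force_eq, Bool.or_eq_true] at h
  have hev := candWord_eval k j hk
  have hlt := candWord_lt (10 * j + k)
  have hev9 : evalW el (candWord (10 * j + k) ++ [9]) = u' := by rw [evalW_append, hev, hu]; simp [evalW]
  have hlt9 := append_lt hlt (show ∀ x ∈ [9], x < 11 by decide +kernel)
  rcases h with ((h | h) | h) | h
  · exact absurd (by rw [evalW_pw, hev9, h3]) (moves_ne (pw_lt hlt9 3) h)
  · refine absurd ?_ (moves_ne (pw_lt (append_lt hlt (by decide +kernel)) 12) h)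
    rw [evalW_pw, show candWord (10 * j + k) ++ [9, 7] = (candWord (10 * j + k) ++ [9]) ++ [7] by simp,
      evalW_append, hev9]
    simpa [evalW] using h12
  · left
    rw [← hev9, eqW_el h hlt9 (by decide +kernel)]
    simp [evalW]
  · right
    rw [← hev9, eqW_el h hlt9 (by decide +kernel), uWord2, evalW_append, rep_eval]
    simp [evalW]

/-- Conjugation by the outer involution. -/
noncomputable def psiFun (g : SG) : SG := (exists_conj_tau g).choose

theorem psiFun_spec (g : SG) : fHom (psiFun g) = tau * fHom g * tau := (exists_conj_tau g).choose_spec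

/-- The outer automorphism. -/
noncomputable def psi : MulAut SG where
  toFun := psiFun
  invFun := psiFun
  left_inv g := fHom_inj (by
    rw [psiFun_spec, psiFun_spec]
    simp only [← mul_assoc, tau_tau, one_mul]
    rw [mul_assoc, tau_tau, mul_one])
  right_inv g := fHom_inj (by
    rw [psiFun_spec, psiFun_spec]
    simp only [← mul_assoc, tau_tau, one_mul]
    rw [mul_assoc, tau_tau, mul_one])
  map_mul' a b := fHom_inj (by
    rw [psiFun_spec, map_mul, map_mul, psiFun_spec, psiFun_spec,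
      show tau * fHom a * tau * (tau * fHom b * tau) = tau * fHom a * (tau * tau) * fHom b * tau by
        simp only [mul_assoc], tau_tau]
    simp only [mul_one, mul_assoc])

theorem psi_el : psi (el 7) = el 7 ∧ psi (el 8) = el 8 ∧ psi (el 9) = el 9 * el 8 ^ 5 ∧ psi (el 10) = el 10 := by
  obtain ⟨-, r7, r8, r10, r9⟩ := rels_spec
  have ht : P 11 = tau := if_pos rfl
  have hc : ∀ j, j ≠ 11 → evalW P [11, j] = evalW P [j, 11] → psi (el j) = el j := by
    intro j hj h
    refine fHom_inj ((psiFun_spec _).trans ?_)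
    simp only [evalW, one_mul, ht, P_el hj] at h
    rw [← h, mul_assoc, tau_tau, mul_one]
  refine ⟨hc 7 (by norm_num) r7, hc 8 (by norm_num) r8, fHom_inj ((psiFun_spec _).trans ?_), hc 10 (by norm_num) r10⟩
  simp only [uWord2, evalW, evalW_append, rep_eval, one_mul, ht, P_el (show (9 : ℕ) ≠ 11 by norm_num),
    P_el (show (8 : ℕ) ≠ 11 by norm_num)] at r9
  rw [r9, map_mul, map_pow]

theorem psi_not_inn : psi ∉ Cfsg.Inn SG := by
  rintro ⟨g, hg⟩
  set c := (fHom g)⁻¹ * tau
  have hti : tau⁻¹ = tau := inv_eq_of_mul_eq_one_right tau_tau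
  have hcomm : ∀ h : SG, Commute c (fHom h) := by
    intro h
    have e : fHom g * fHom h * (fHom g)⁻¹ = tau * fHom h * tau := by
      rw [← psiFun_spec, ← map_inv, ← map_mul, ← map_mul]
      exact congrArg fHom (DFunLike.congr_fun hg h)
    show (fHom g)⁻¹ * tau * fHom h = fHom h * ((fHom g)⁻¹ * tau)
    calc (fHom g)⁻¹ * tau * fHom h = (fHom g)⁻¹ * (tau * fHom h * tau) * tau := by
          simp only [mul_assoc, tau_tau, mul_one]
      _ = _ := by rw [← e]; group
  have hc0 : c pt0 = pt0 := by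
    have hfix : ∀ j < 6, fHom (PresSuz.gens j) pt0 = pt0 := fun j hj => Fin.ext (by
      rw [fHom_img j (by omega)]
      interval_cases j <;> decide +kernel)
    have hmove : ∀ p < SuzG24.tbl.n, p = 0 ∨ ∃ j < 6, img j p ≠ p := by
      intro p hp
      have h : allB (fun p => Nat.beq p 0 || anyB (fun j => !Nat.beq (img j p) p) [0, 1, 2, 3, 4, 5]) npt = true := by
        decide +kernel
      have h1 := allB_spec h p (n_eq ▸ hp)
      simp only [Bool.or_eq_true] at h1
      rcases h1 with h1 | h1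
      · exact Or.inl (Nat.eq_of_beq_eq_true h1)
      · obtain ⟨j, hj, hjp⟩ := anyB_spec h1
        refine Or.inr ⟨j, by simp at hj; omega, fun e => ?_⟩
        rw [e, Nat.beq_refl] at hjp
        exact Bool.noConfusion hjp
    rcases hmove (c pt0) (c pt0).isLt with h | ⟨j, hj, h⟩
    · exact Fin.ext h
    · refine absurd ?_ h
      rw [← fHom_img j (by omega), ← Equiv.Perm.mul_apply, ← (hcomm _).eq, Equiv.Perm.mul_apply, hfix j hj]
  have hc1 : c = 1 := Equiv.ext fun u => by
    have e : fHom (down u)⁻¹ pt0 = u := by rw [map_inv, Equiv.Perm.inv_eq_iff_eq, down_self]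
    rw [← e, ← Equiv.Perm.mul_apply, (hcomm _).eq, Equiv.Perm.mul_apply, hc0, e, Equiv.Perm.one_apply]
  have hs := congrArg Equiv.Perm.sign (inv_mul_eq_one.1 hc1)
  rw [sign_f, sign_tau] at hs
  exact absurd hs (by decide)

theorem card_out_Suz : Nat.card (Cfsg.Out Cfsg.Spor.Suz) = 2 := by
  obtain ⟨hsimple, hcard⟩ := SuzOrd.isSimple_and_card
  haveI := Fact.mk (by norm_num : Nat.Prime 11)
  haveI : Finite SG := Nat.finite_of_card_ne_zero (by rw [show Nat.card SG = _ from hcard]; norm_num)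
  obtain ⟨e1, e2, e3, e4, e5, e6, e7, e8, e9, e10, e11, e12⟩ := el_rels
  set X := el 7 with hXdef
  set Y := el 8 with hYdef
  have hXo : orderOf X = 11 := orderOf_eq_prime e3 e9
  have hYX : Y * X * Y⁻¹ = X ^ 2 := mul_inv_eq_iff_eq_mul.2 e1
  have hYi : ∀ i a : ℕ, Y ^ i * X ^ a * (Y ^ i)⁻¹ = X ^ (2 ^ i * a) := by
    intro i a
    induction i with
    | zero => simp
    | succ i ih =>
      calc Y ^ (i + 1) * X ^ a * (Y ^ (i + 1))⁻¹ = Y * (Y ^ i * X ^ a * (Y ^ i)⁻¹) * Y⁻¹ := by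
            rw [pow_succ']; group
        _ = (Y * X * Y⁻¹) ^ (2 ^ i * a) := by rw [ih, conj_pow]
        _ = X ^ (2 ^ (i + 1) * a) := by rw [hYX, ← pow_mul, pow_succ]; congr 1; ring
  have hYX' : Y⁻¹ * X * Y = X ^ 6 := by
    have h12 : X = X ^ 12 := by rw [pow_succ, e3, one_mul]
    conv_lhs => rw [h12, show (12 : ℕ) = 2 * 6 by norm_num, pow_mul, ← hYX, conj_pow]
    group
  have step : ∀ (g : SG) (φ : MulAut SG), (∀ ψ : MulAut SG, ψ = MulAut.conj g * φ →
      (ψ ∈ Cfsg.Inn SG ∨ psi⁻¹ * ψ ∈ Cfsg.Inn SG)) → φ ∈ Cfsg.Inn SG ∨ psi⁻¹ * φ ∈ Cfsg.Inn SG := by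
    intro g φ h
    have hg : MulAut.conj g ∈ Cfsg.Inn SG := ⟨g, rfl⟩
    rcases h _ rfl with h | h
    · left
      have := mul_mem (inv_mem hg) h
      rwa [inv_mul_cancel_left] at this
    · right
      have hn : psi⁻¹ * MulAut.conj g⁻¹ * psi ∈ Cfsg.Inn SG := by
        refine ⟨psi⁻¹ g⁻¹, MulEquiv.ext fun x => ?_⟩
        show psi⁻¹ g⁻¹ * x * (psi⁻¹ g⁻¹)⁻¹ = psi⁻¹ (g⁻¹ * psi x * g⁻¹⁻¹)
        simp
      have := mul_mem hn h
      rwa [show psi⁻¹ * MulAut.conj g⁻¹ * psi * (psi⁻¹ * (MulAut.conj g * φ)) = psi⁻¹ * φ by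
        rw [map_inv]; group] at this
  have last : ∀ φ : MulAut SG, φ X = X → φ Y = Y → (φ ∈ Cfsg.Inn SG ∨ psi⁻¹ * φ ∈ Cfsg.Inn SG) := by
    intro φ hX hY
    have hE : φ (el 10) = el 10 := by
      have hc : Commute (φ (el 10)) Y := by
        show φ (el 10) * Y = Y * φ (el 10)
        rw [← hY, ← map_mul, ← map_mul, e7]
      rcases image_e hc (by rw [← map_mul, e6, map_one]) (by rw [← hXdef, ← hX, ← map_mul, ← map_pow, e10, map_one])
        with h | h | h
      · exact absurd (φ.injective (h.trans (map_one φ).symm)) e8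
      · refine absurd (φ.injective (h.trans ?_)) e12
        rw [map_pow, hY]
      · exact h
    have agree : ∀ ρ : MulAut SG, ρ X = X → ρ Y = Y → ρ (el 9) = φ (el 9) → ρ (el 10) = el 10 → φ = ρ := by
      intro ρ r7 r8 r9 r10
      have hK := gen_top (φ.toMonoidHom.eqLocus ρ.toMonoidHom) (hX.trans r7.symm) (hY.trans r8.symm) r9.symm
        (hE.trans r10.symm)
      refine MulEquiv.ext fun x => ?_
      exact (hK ▸ Subgroup.mem_top x : x ∈ φ.toMonoidHom.eqLocus ρ.toMonoidHom)
    rcases image_u (u' := φ (el 9))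
      (by
        have := congrArg φ e2
        rwa [map_mul, map_mul, map_mul, map_pow, hY, hE] at this)
      (by rw [← map_pow, e5, map_one]) (by rw [← hXdef, ← hX, ← map_mul, ← map_pow, e11, map_one]) with h | h
    · left
      rw [agree 1 rfl rfl h.symm rfl]
      exact one_mem _
    · right
      obtain ⟨p7, p8, p9, p10⟩ := psi_el
      rw [agree psi p7 p8 (p9.trans h.symm) p10, inv_mul_cancel]
      exact one_mem _
  have mid : ∀ φ : MulAut SG, φ X = X → (φ ∈ Cfsg.Inn SG ∨ psi⁻¹ * φ ∈ Cfsg.Inn SG) := by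
    intro φ hX
    have hc : Commute (Y⁻¹ * φ Y) X := by
      have h := congrArg φ hYX
      rw [map_mul, map_mul, map_inv, map_pow, hX, ← hYX] at h
      show Y⁻¹ * φ Y * X = X * (Y⁻¹ * φ Y)
      calc Y⁻¹ * φ Y * X = Y⁻¹ * (φ Y * X * (φ Y)⁻¹) * φ Y := by group
        _ = X * (Y⁻¹ * φ Y) := by rw [h]; group
    obtain ⟨j, hj⟩ := centralizer_x hc
    have hφY : φ Y = Y * X ^ j := by rw [← hj, mul_inv_cancel_left]
    refine step (X ^ (2 * j)) φ fun ψ hψ => last ψ ?_ ?_
    · rw [hψ, MulAut.mul_apply, hX, MulAut.conj_apply]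
      group
    · rw [hψ, MulAut.mul_apply, hφY, MulAut.conj_apply]
      have h11j : (Y⁻¹ * X ^ (2 * j) * Y) * X ^ j * (X ^ (2 * j))⁻¹ = 1 := by
        rw [show Y⁻¹ * X ^ (2 * j) * Y = (Y⁻¹ * X * Y) ^ (2 * j) from by
            simpa [MulAut.conj_apply] using map_pow (MulAut.conj Y⁻¹) X (2 * j),
          hYX', ← pow_mul, mul_inv_eq_one, ← pow_add, show 6 * (2 * j) + j = 11 * j + 2 * j by ring,
          pow_add, pow_mul, e3, one_pow, one_mul]
      calc X ^ (2 * j) * (Y * X ^ j) * (X ^ (2 * j))⁻¹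
          = Y * ((Y⁻¹ * X ^ (2 * j) * Y) * X ^ j * (X ^ (2 * j))⁻¹) := by group
        _ = Y := by rw [h11j, mul_one]
  have key : ∀ φ : MulAut SG, φ ∈ Cfsg.Inn SG ∨ psi⁻¹ * φ ∈ Cfsg.Inn SG := by
    intro φ
    have hPX : Nat.card (Subgroup.zpowers X) = 11 := by rw [Nat.card_zpowers, hXo]
    have hfac : (Nat.card SG).factorization 11 = 1 := by
      have hd : 11 ∣ Nat.card SG := hXo ▸ orderOf_dvd_natCard X
      have h1 := (Nat.Prime.dvd_iff_one_le_factorization (by norm_num : Nat.Prime 11) Nat.card_pos.ne').1 hd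
      have h2 : ¬ 2 ≤ (Nat.card SG).factorization 11 := fun h => by
        have := ((by norm_num : Nat.Prime 11).pow_dvd_iff_le_factorization Nat.card_pos.ne').2 h
        rw [show Nat.card SG = _ from hcard] at this
        norm_num at this
      omega
    let Q0 : Sylow 11 SG := Sylow.ofCard (Subgroup.zpowers X) (by rw [hPX, hfac, pow_one])
    have hφo : orderOf (φ X) = 11 := (φ.orderOf_eq X).trans hXo
    obtain ⟨Q, hQ⟩ := IsPGroup.exists_le_sylow (IsPGroup.of_card (p := 11) (n := 1)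
      (G := Subgroup.zpowers (φ X)) (by rw [Nat.card_zpowers, hφo, pow_one]))
    obtain ⟨g, rfl⟩ := MulAction.exists_smul_eq SG Q0 Q
    obtain ⟨u, hu, hgu⟩ := hQ (Subgroup.mem_zpowers (φ X))
    refine step g⁻¹ φ fun φ' hφ' => ?_
    have hu' : φ' X = u := by
      rw [hφ', MulAut.mul_apply, MulAut.conj_apply, ← hgu]
      show g⁻¹ * (g * u * g⁻¹) * g⁻¹⁻¹ = u
      group
    rw [show ((Q0 : Subgroup SG) : Set SG) = (Subgroup.zpowers X : Set SG) from rfl, SetLike.mem_coe,
      ← mem_powers_iff_mem_zpowers, Submonoid.mem_powers_iff] at hu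
    obtain ⟨b, hb⟩ := hu
    have hb0 : b % 11 ≠ 0 := fun e => by
      have h1 : φ' X = 1 := by rw [hu', ← hb, ← pow_mod_orderOf, hXo, e, pow_zero]
      exact e9 (φ'.injective (h1.trans (map_one φ').symm))
    have harith : ∀ b < 11, b ≠ 0 → ∃ i < 10, 2 ^ i * b % 11 = 1 := by decide +kernel
    obtain ⟨i, -, hi⟩ := harith _ (Nat.mod_lt _ (by norm_num)) hb0
    refine step (Y ^ i) φ' fun ψ hψ => mid ψ ?_
    rw [hψ, MulAut.mul_apply, hu', ← hb, MulAut.conj_apply, hYi, ← pow_mod_orderOf X (2 ^ i * b), hXo,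
      Nat.mul_mod (2 ^ i) b, ← Nat.mod_mod b 11, ← Nat.mul_mod, hi, pow_one]
  show Nat.card (MulAut SG ⧸ Cfsg.Inn SG) = 2
  rw [Nat.card_eq_two_iff]
  refine ⟨((1 : MulAut SG) : MulAut SG ⧸ Cfsg.Inn SG), (psi : MulAut SG ⧸ Cfsg.Inn SG), ?_, ?_⟩
  · rw [Ne, QuotientGroup.eq, inv_one, one_mul]
    exact psi_not_inn
  · refine Set.eq_univ_of_forall fun q => ?_
    obtain ⟨φ, rfl⟩ := QuotientGroup.mk_surjective q
    rcases key φ with h | h
    · refine Set.mem_insert_iff.2 (Or.inl (QuotientGroup.eq.2 ?_))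
      rw [mul_one]
      exact inv_mem h
    · refine Set.mem_insert_iff.2 (Or.inr (Set.mem_singleton_iff.2 (QuotientGroup.eq.2 ?_)))
      have := inv_mem h
      rwa [mul_inv_rev, inv_inv] at this

end Cfsg.Agent.FGS4.SuzOut
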